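import Cfsg.Agent.H682.Tor.Base
import Cfsg.Agent.H536.T5.HNRow
import Cfsg.Agent.SigZeroHN.Main
import Cfsg.Agent.H845.HNNineteen
import Cfsg.Agent.HN.TwoClasses

/-!
# S3235: the Harada-Norton group (helper682)

* `facts_hn` : `Facts p G` for all primes `p ≥ 5`.
-/

set_option autoImplicit false

namespace Cfsg.Agent.H682.Tor

open Subgroup Cfsg Cfsg.Agent.H103.Tor Cfsg.Agent.H33.Tor

universe u v

namespace HN

theorem primes {p : ℕ} (hp : p.Prime) (hp5 : 5 ≤ p) (h : p ∣ 273030912000000) :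
    p = 5 ∨ p = 7 ∨ p = 11 ∨ p = 19 := by
  have h1 : p ∣ 2 ^ 14 * 3 ^ 6 * 5 ^ 6 * 7 * 11 * 19 := by norm_num; exact h
  simp only [hp.dvd_mul] at h1
  have k : ∀ {a b : ℕ}, a.Prime → p ∣ a ^ b → p = a := fun ha h => (Nat.prime_dvd_prime_iff_eq hp ha).1 (hp.dvd_of_dvd_pow h)
  have k' : ∀ {a : ℕ}, a.Prime → p ∣ a → p = a := fun ha h => (Nat.prime_dvd_prime_iff_eq hp ha).1 h
  rcases h1 with ((((h1 | h1) | h1) | h1) | h1) | h1
  · have := k Nat.prime_two h1; omega
  · have := k Nat.prime_three h1; omega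
  · exact Or.inl (k Nat.prime_five h1)
  · exact Or.inr (Or.inl (k' (by norm_num) h1))
  · exact Or.inr (Or.inr (Or.inl (k' (by norm_num) h1)))
  · exact Or.inr (Or.inr (Or.inr (k' (by norm_num) h1)))

end HN

theorem facts_hn {p : ℕ} (hp : p.Prime) (hp5 : 5 ≤ p) {G : Type u} [Group G] [Finite G] (h : Spor.IsoHN G) :
    Facts p G := by
  obtain ⟨e⟩ := h
  have hcard : Nat.card Spor.HN = 273030912000000 := Cfsg.Agent.S1701.result.2
  have hfin : Finite Spor.HN := Nat.finite_of_card_ne_zero (by rw [hcard]; norm_num)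
  refine Facts.congr e.symm ?_
  by_cases hd : p ∣ Nat.card Spor.HN
  · rw [hcard] at hd
    rcases HN.primes hp hp5 hd with h1 | h1 | h1 | h1
    · subst h1
      intro x hx
      left
      obtain ⟨_, _, _, _, _, _, D⟩ := H536.T5.dat
      obtain ⟨s, hs2, hs1, hsx⟩ := D.exists_inv (by rw [hcard]; norm_num) hx
      have := Fact.mk Nat.prime_two
      exact ⟨s, orderOf_eq_prime (by rw [pow_two]; exact hs2) hs1, hsx⟩
    · subst h1
      exact facts_of_cent hp (by rw [hcard]; norm_num) Cfsg.Agent.HN.TwoClasses.orderOf_ψτ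
        (by rw [Cfsg.Agent.KFacts.HN.Classes.card_centralizer_τ]; norm_num)
    · subst h1
      exact facts_of_cent hp (by rw [hcard]; norm_num) Cfsg.Agent.HN.TwoClasses.orderOf_ψτ
        (by rw [Cfsg.Agent.KFacts.HN.Classes.card_centralizer_τ]; norm_num)
    · subst h1
      obtain ⟨x0, hx0, hc0⟩ := H845.HNNineteen.hn_nineteen
      exact Facts.self hp (by norm_num) (fun x hx => by rw [card_cent_eq hp (by rw [hcard]; norm_num) hx hx0, hc0])
        (by rw [hcard]; norm_num)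
  · intro x hx
    exact absurd (hx ▸ orderOf_dvd_natCard x) hd

end Cfsg.Agent.H682.Tor
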