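import Cfsg.Agent.H682.Tor.Base
import Cfsg.Agent.H502.TO.Main
import Cfsg.Agent.H723.Spor.Th

/-!
# S3235: the Thompson group (helper682)

* `facts_th` : `Facts p G` for all primes `p ≥ 5`.
-/

set_option autoImplicit false

namespace Cfsg.Agent.H682.Tor

open Subgroup Cfsg Cfsg.Agent.H103.Tor Cfsg.Agent.H33.Tor

universe u v

namespace Th

open Cfsg.Agent.H502.TO

/-- an element of order 7 commutes with an involution -/
theorem seven {y : Spor.Th} (hy : orderOf y = 7) : ∃ s : Spor.Th, orderOf s = 2 ∧ s * y = y * s := by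
  have D := H49.ThSeven.dat
  obtain ⟨g, hg⟩ := D.one y hy
  have h1 := D.ax
  have h2 := D.ha
  set a := Cfsg.Agent.Th.IndexUpper.gTh 1 with ha
  refine ⟨g⁻¹ * a * g, ?_, ?_⟩
  · have h3 : orderOf (MulAut.conj g⁻¹ a) = 2 := by rw [MulEquiv.orderOf_eq, h2]
    rwa [MulAut.conj_apply, inv_inv] at h3
  · rw [← hg] at h1
    calc g⁻¹ * a * g * y = g⁻¹ * (a * (g * y * g⁻¹)) * g := by group
      _ = g⁻¹ * (g * y * g⁻¹ * a) * g := by rw [h1]
      _ = y * (g⁻¹ * a * g) := by group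

theorem card_seven {y : Spor.Th} (hy : orderOf y = 7) {r : ℕ} (hr : r.Prime) (h13 : 13 ≤ r) :
    ¬ r ∣ Nat.card (centralizer ({y} : Set Spor.Th)) := by
  obtain ⟨s, hs, hc⟩ := seven hy
  have k : ∀ m : ℕ, m ∣ 2 ^ 4 * 3 ^ 2 * 5 * 7 ^ 2 → ¬ r ∣ m := by
    intro m hm h
    have h1 := h.trans hm
    simp only [hr.dvd_mul] at h1
    rcases h1 with ((h1 | h1) | h1) | h1
    · have := Nat.le_of_dvd (by norm_num) (hr.dvd_of_dvd_pow h1); omega
    · have := Nat.le_of_dvd (by norm_num) (hr.dvd_of_dvd_pow h1); omega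
    · have := Nat.le_of_dvd (by norm_num) h1; omega
    · have := Nat.le_of_dvd (by norm_num) (hr.dvd_of_dvd_pow h1); omega
  rcases H723.Spor.Th.card_seven KFacts.Th.Main.ctx H723.Spor.Th.hone hy hs hc with h | h
  · rw [h]; exact k _ (by norm_num)
  · rw [h]; exact k _ (by norm_num)

theorem primes {p : ℕ} (hp : p.Prime) (hp5 : 5 ≤ p) (h : p ∣ 90745943887872000) :
    p = 5 ∨ p = 7 ∨ p = 13 ∨ p = 19 ∨ p = 31 := by
  have h1 : p ∣ 2 ^ 15 * 3 ^ 10 * 5 ^ 3 * 7 ^ 2 * 13 * 19 * 31 := by norm_num; exact h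
  simp only [hp.dvd_mul] at h1
  have k : ∀ {a b : ℕ}, a.Prime → p ∣ a ^ b → p = a := fun ha h => (Nat.prime_dvd_prime_iff_eq hp ha).1 (hp.dvd_of_dvd_pow h)
  have k' : ∀ {a : ℕ}, a.Prime → p ∣ a → p = a := fun ha h => (Nat.prime_dvd_prime_iff_eq hp ha).1 h
  rcases h1 with (((((h1 | h1) | h1) | h1) | h1) | h1) | h1
  · have := k Nat.prime_two h1; omega
  · have := k Nat.prime_three h1; omega
  · exact Or.inl (k Nat.prime_five h1)
  · exact Or.inr (Or.inl (k (by norm_num) h1))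
  · exact Or.inr (Or.inr (Or.inl (k' (by norm_num) h1)))
  · exact Or.inr (Or.inr (Or.inr (Or.inl (k' (by norm_num) h1))))
  · exact Or.inr (Or.inr (Or.inr (Or.inr (k' (by norm_num) h1))))

/-- the elements of order 13, 19, 31 -/
theorem large {r : ℕ} (hr : r = 13 ∨ r = 19 ∨ r = 31) {x : Spor.Th} (hx : orderOf x = r) :
    Nat.card (centralizer ({x} : Set Spor.Th)) ∣ 3 ^ 10 * 13 * 19 * 31 ∧
      Nat.card (centralizer ({x} : Set Spor.Th)) < 2 ^ 15 := by
  have hfin := fin_th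
  have hcard := card_th
  have hrp : r.Prime := by rcases hr with rfl | rfl | rfl <;> norm_num
  have h2 : ¬ 2 ∣ Nat.card (centralizer ({x} : Set Spor.Th)) := by
    refine odd_cent hrp ?_ hx
    rcases hr with rfl | rfl | rfl <;> norm_num
  have h5 : ¬ 5 ∣ Nat.card (centralizer ({x} : Set Spor.Th)) := by
    refine not_dvd_five hrp ?_ hx
    rcases hr with rfl | rfl | rfl <;> norm_num
  have h7 : ¬ 7 ∣ Nat.card (centralizer ({x} : Set Spor.Th)) := by
    intro h
    obtain ⟨z, hz, hd⟩ := dvd_symm (by norm_num) h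
    rw [hx] at hd
    exact card_seven hz hrp (by rcases hr with rfl | rfl | rfl <;> norm_num) hd
  have hx1 : x ≠ 1 := by
    rintro rfl
    rw [orderOf_one] at hx
    omega
  refine ⟨?_, main hx1 (Nat.not_even_iff_odd.1 fun h => h2 (even_iff_two_dvd.1 h)) h7⟩
  have hcG : Nat.card (centralizer ({x} : Set Spor.Th)) ∣ 90745943887872000 := by
    rw [← hcard]; exact Subgroup.card_subgroup_dvd_card _
  have k1 : Nat.card (centralizer ({x} : Set Spor.Th)) ∣ (3 ^ 10 * 7 ^ 2 * 13 * 19 * 31 * 5 ^ 3) * 2 ^ 15 :=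
    hcG.trans (by norm_num)
  have k2 : Nat.card (centralizer ({x} : Set Spor.Th)) ∣ (3 ^ 10 * 7 ^ 2 * 13 * 19 * 31) * 5 ^ 3 :=
    dvd_of_not Nat.prime_two k1 h2
  have k3 : Nat.card (centralizer ({x} : Set Spor.Th)) ∣ (3 ^ 10 * 13 * 19 * 31) * 7 ^ 2 :=
    (dvd_of_not (by norm_num) k2 h5).trans (by norm_num)
  exact dvd_of_not (by norm_num) k3 h7

theorem arith13 : ∀ a ≤ 10, ∀ d ≤ 1, ∀ e ≤ 1, 3 ^ a * 7 ^ 0 * 13 ^ d * 19 ^ e < 2 ^ 15 →
    (3 ^ a * 7 ^ 0 * 13 ^ d * 19 ^ e) % 13 = 0 → 3 ^ a * 7 ^ 0 * 13 ^ d * 19 ^ e ≤ 28431 := by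
  decide +kernel

end Th

theorem facts_th {p : ℕ} (hp : p.Prime) (hp5 : 5 ≤ p) {G : Type u} [Group G] [Finite G] (h : Spor.IsoTh G) :
    Facts p G := by
  obtain ⟨e⟩ := h
  have hfin := H502.TO.fin_th
  have hcard := H502.TO.card_th
  refine Facts.congr e.symm ?_
  by_cases hd : p ∣ Nat.card Spor.Th
  · rw [hcard] at hd
    rcases Th.primes hp hp5 hd with h1 | h1 | h1 | h1 | h1
    · subst h1
      exact Facts.even fun x hx => by rw [H502.TO.card_five hx]; norm_num
    · subst h1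
      exact fun x hx => Or.inl (Th.seven hx)
    · subst h1
      intro x hx
      right; right
      have h13 : 13 ∣ Nat.card (centralizer ({x} : Set Spor.Th)) := by
        have := H502.TO.dvd_of_comm (y := x) (z := x) rfl
        rwa [hx] at this
      have h31 : ¬ 31 ∣ Nat.card (centralizer ({x} : Set Spor.Th)) := by
        intro h
        obtain ⟨z, hz, hd⟩ := H502.TO.dvd_symm (by norm_num) h
        rw [hx] at hd
        exact (H502.TO.thirtyone hz).1 hd
      obtain ⟨h2, h3⟩ := Th.large (Or.inl rfl) hx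
      have h4 : Nat.card (centralizer ({x} : Set Spor.Th)) ∣ 3 ^ 10 * 7 ^ 0 * 13 ^ 1 * 19 ^ 1 :=
        (H502.TO.dvd_of_not (k := 1) (q := 31) (by norm_num) (h2.trans (by norm_num)) h31).trans
          (by norm_num : (3 ^ 10 * 13 * 19 : ℕ) ∣ _)
      obtain ⟨a, ha, b, hb, d, hd, e, he, hc⟩ := H502.TO.exists_exp h4
      obtain rfl : b = 0 := Nat.le_zero.1 hb
      rw [hc] at h3 h13
      have h5 := Th.arith13 a ha d hd e he h3 (Nat.mod_eq_zero_of_dvd h13)
      rw [← hc] at h5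
      exact Iv.of_le h5 (fun z hz => (MonsterX.ThOneClass.card_centralizer hz).le) hcard 3 (by norm_num)
        (by norm_num)
    · subst h1
      intro x hx
      right; left
      have h1 := H502.TO.nineteen hx
      have h2 : Nat.card (centralizer ({x} : Set Spor.Th)) ∈ Nat.divisors 741 := Nat.mem_divisors.2 ⟨h1, by norm_num⟩
      unfold Sm
      rw [hcard]
      have key : ∀ c ∈ Nat.divisors 741, (¬ 16 ^ c ≡ 1 [MOD 19]) ∧ c ^ 2 * (19 + (c - 1) * c) < 19 * 90745943887872000 := by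
        decide +kernel
      exact key _ h2
    · subst h1
      intro x hx
      right; left
      obtain ⟨h2, h3⟩ := Th.large (Or.inr (Or.inr rfl)) hx
      unfold Sm
      rw [hcard]
      set c := Nat.card (centralizer ({x} : Set Spor.Th)) with hc
      refine ⟨?_, ?_⟩
      · have h5 : ¬ 5 ∣ c := fun h => by
          have := h.trans h2
          revert this
          norm_num
        intro h6
        have h7 : 16 ^ (c % 5) % 31 = 1 := by
          have h8 : 16 ^ c = (16 ^ 5) ^ (c / 5) * 16 ^ (c % 5) := by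
            rw [← pow_mul, ← pow_add, Nat.div_add_mod]
          have h9 : (16 ^ 5 : ℕ) ≡ 1 [MOD 31] := by decide
          have h10 := (h9.pow (c / 5)).mul_right (16 ^ (c % 5))
          rw [one_pow, one_mul, ← h8] at h10
          exact (h10.symm.trans h6)
        have h8 : c % 5 < 5 := Nat.mod_lt _ (by norm_num)
        have key : ∀ r < 5, 16 ^ r % 31 = 1 → r = 0 := by decide
        exact h5 (Nat.dvd_of_mod_eq_zero (key _ h8 h7))
      · have h4 : c ≤ 32768 := h3.le
        calc c ^ 2 * (31 + (c - 1) * c) ≤ 32768 ^ 2 * (31 + 32768 * 32768) := by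
              refine Nat.mul_le_mul (Nat.pow_le_pow_left h4 2) (Nat.add_le_add_left (Nat.mul_le_mul ?_ h4) 31)
              omega
          _ < 31 * 90745943887872000 := by norm_num
  · intro x hx
    exact absurd (hx ▸ orderOf_dvd_natCard x) hd

end Cfsg.Agent.H682.Tor
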