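import Cfsg.Agent.H682.Tor.Base
import Cfsg.Agent.H438.Fpr.LyA
import Cfsg.Agent.SporRec.LyG2.LyEmb
import Cfsg.Agent.Ly.IndexEq
import Cfsg.Agent.TypeM.FactsAut

/-!
# S3235: the Lyons group (helper682)

* `facts_ly` : `Facts p G` for `p ≠ 5, 37, 67`;
* `kill_ly_five`, `kill_ly_big` : `p = 5` (by `G₂(5) ≤ Ly`), `p = 37, 67` (by the order of `PSL₂(p)`);
-/

set_option autoImplicit false

namespace Cfsg.Agent.H682.Tor

open Subgroup Cfsg Cfsg.Agent.H103.Tor Cfsg.Agent.H33.Tor

universe u v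

theorem card_ly {G : Type u} [Group G] (h : Spor.IsoLy G) : Nat.card G = 51765179004000000 := by
  obtain ⟨e⟩ := h
  rw [Nat.card_congr e.toEquiv]
  exact Cfsg.Agent.Ly.Setup.card_ly

theorem primes_ly {p : ℕ} (hp : p.Prime) (hp5 : 5 ≤ p) (h : p ∣ 51765179004000000) :
    p = 5 ∨ p = 7 ∨ p = 11 ∨ p = 31 ∨ p = 37 ∨ p = 67 := by
  have h1 : p ∣ 2 ^ 8 * 3 ^ 7 * 5 ^ 6 * 7 * 11 * 31 * 37 * 67 := by norm_num; exact h
  simp only [hp.dvd_mul] at h1
  have k : ∀ {a b : ℕ}, a.Prime → p ∣ a ^ b → p = a := fun ha h => (Nat.prime_dvd_prime_iff_eq hp ha).1 (hp.dvd_of_dvd_pow h)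
  have k' : ∀ {a : ℕ}, a.Prime → p ∣ a → p = a := fun ha h => (Nat.prime_dvd_prime_iff_eq hp ha).1 h
  rcases h1 with ((((((h1 | h1) | h1) | h1) | h1) | h1) | h1) | h1
  · have := k Nat.prime_two h1; omega
  · have := k Nat.prime_three h1; omega
  · exact Or.inl (k Nat.prime_five h1)
  · exact Or.inr (Or.inl (k' (by norm_num) h1))
  · exact Or.inr (Or.inr (Or.inl (k' (by norm_num) h1)))
  · exact Or.inr (Or.inr (Or.inr (Or.inl (k' (by norm_num) h1))))
  · exact Or.inr (Or.inr (Or.inr (Or.inr (Or.inl (k' (by norm_num) h1)))))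
  · exact Or.inr (Or.inr (Or.inr (Or.inr (Or.inr (k' (by norm_num) h1)))))

/-- `7`, `11` -/
theorem facts_ly_even {p : ℕ} (hp : p = 7 ∨ p = 11) {G : Type u} [Group G] [Finite G] (h : Spor.IsoLy G) :
    Facts p G := by
  obtain ⟨-, -, hcard, ⟨L⟩⟩ := TypeM.FactsLy.facts h
  refine facts_of_cent (by rcases hp with rfl | rfl <;> norm_num) ?_ L.orderOf_t ?_
  · rw [hcard]
    rcases hp with rfl | rfl <;> norm_num
  · rw [TypeM.FactsAut.card_centralizer L (by norm_num)]
    rcases hp with rfl | rfl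
    · exact Nat.dvd_factorial (by norm_num) (by norm_num)
    · exact Nat.dvd_factorial (by norm_num) (by norm_num)

theorem facts_ly_31 {G : Type u} [Group G] [Finite G] (h : Spor.IsoLy G) : Facts 31 G := by
  obtain ⟨e⟩ := h
  refine Facts.congr e.symm (Facts.self (by norm_num) (by norm_num) (fun x hx => ?_) ?_)
  · rw [← centralizer_zpowers]
    exact H438.Fpr.Ly.cent31 (by rw [Nat.card_zpowers, hx])
  · rw [Cfsg.Agent.Ly.Setup.card_ly]
    norm_num

/-- **the facts** for `p ≠ 5, 37, 67` -/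
theorem facts_ly {p : ℕ} (hp : p.Prime) (hp5 : 5 ≤ p) {G : Type u} [Group G] [Finite G] (h : Spor.IsoLy G)
    (h5 : p ≠ 5) (h37 : p ≠ 37) (h67 : p ≠ 67) : Facts p G := by
  by_cases hd : p ∣ Nat.card G
  · rw [card_ly h] at hd
    rcases primes_ly hp hp5 hd with h1 | h1 | h1 | h1 | h1 | h1
    · exact absurd h1 h5
    · exact facts_ly_even (Or.inl h1) h
    · exact facts_ly_even (Or.inr h1) h
    · subst h1; exact facts_ly_31 h
    · exact absurd h1 h37
    · exact absurd h1 h67
  · intro x hx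
    exact absurd (hx ▸ orderOf_dvd_natCard x) hd

/-- `p = 37, 67` : `19`, `17` do not divide `|G|` -/
theorem kill_ly_big {p : ℕ} (hp : p = 37 ∨ p = 67) {G : Type u} [Group G] [Finite G] (h : Spor.IsoLy G) :
    Kill p G := by
  obtain ⟨-, hsimp, hcard, -⟩ := TypeM.FactsLy.facts h
  have hna : ¬ IsMulCommutative G := by
    intro hc
    have h1 : (Nat.card G).Prime := by
      let _ : CommGroup G := { (inferInstance : Group G) with mul_comm := hc.is_comm.comm }
      exact IsSimpleGroup.prime_card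
    rw [hcard] at h1
    revert h1
    norm_num
  refine kill_of_order (by rcases hp with rfl | rfl <;> norm_num) (by rcases hp with rfl | rfl <;> norm_num) hna ?_
  rw [hcard]
  rcases hp with rfl | rfl <;> norm_num

/-- `p = 5` : the subgroup `G₂(5)` -/
theorem kill_ly_five {G : Type u} [Group G] [Finite G] (h : Spor.IsoLy G)
    (ih : ∀ (K : Type u) [Group K] [Finite K] [IsSimpleGroup K], Nat.card K < Nat.card G →
      (¬ ∀ x y : K, x * y = y * x) → H103.Tor.Row 5 K) : Kill 5 G := by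
  have hcard := card_ly h
  obtain ⟨e⟩ := h
  set K : Subgroup G := SporRec.LyG2.LyEmb.H.map e.symm.toMonoidHom with hK
  let f : SporRec.LyG2.LyEmb.H ≃* K := SporRec.LyG2.LyEmb.H.equivMapOfInjective _ e.symm.injective
  have hs : IsSimpleGroup K := by
    have := SporRec.LyG2.LyEmb.isSimpleGroup_H
    exact MulEquiv.isSimpleGroup f.symm
  have hc : Nat.card K = 5859000000 := by
    rw [← Nat.card_congr f.toEquiv, SporRec.LyG2.LyEmb.card_H]
  have hi : K.index = 8835156 := by
    have h1 := K.card_mul_index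
    rw [hc, hcard] at h1
    omega
  refine kill_of_sub (by norm_num) ih hs (by rw [hc, hcard]; norm_num) ?_ (by rw [hi]; norm_num) (not_target_ly hc)
  intro h1
  let _ : CommGroup K := { (inferInstance : Group K) with mul_comm := h1 }
  have h2 : (Nat.card K).Prime := IsSimpleGroup.prime_card
  rw [hc] at h2
  revert h2
  norm_num

/-- **the kill** for `p = 5, 37, 67` -/
theorem kill_ly {p : ℕ} (hp : p = 5 ∨ p = 37 ∨ p = 67) {G : Type u} [Group G] [Finite G] (h : Spor.IsoLy G)
    (ih : ∀ (K : Type u) [Group K] [Finite K] [IsSimpleGroup K], Nat.card K < Nat.card G →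
      (¬ ∀ x y : K, x * y = y * x) → H103.Tor.Row p K) : Kill p G := by
  rcases hp with hp | hp
  · subst hp
    exact kill_ly_five h ih
  · exact kill_ly_big hp h

end Cfsg.Agent.H682.Tor
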