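import Cfsg.Agent.H682.Tor.Base
import Cfsg.Agent.KFacts.ON.Cent
import Cfsg.Agent.H19.Odd.ONEl

/-!
# S3235: the O'Nan group (helper682)

* `facts_on` : `Facts p G` for `p ≠ 7`;
* `kill_on_seven` : `p = 7`, by `L₃(7) ≤ ON`.
-/

set_option autoImplicit false

namespace Cfsg.Agent.H682.Tor

open Subgroup Cfsg Cfsg.Agent.H103.Tor Cfsg.Agent.H33.Tor

universe u v

theorem card_ON' : Nat.card Spor.ON = 460815505920 := H474.ONC.card_ON

theorem card_on {G : Type u} [Group G] (h : Spor.IsoON G) : Nat.card G = 460815505920 := by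
  obtain ⟨e⟩ := h
  rw [Nat.card_congr e.toEquiv]
  exact card_ON'

theorem primes_on {p : ℕ} (hp : p.Prime) (hp5 : 5 ≤ p) (h : p ∣ 460815505920) :
    p = 5 ∨ p = 7 ∨ p = 11 ∨ p = 19 ∨ p = 31 := by
  have h1 : p ∣ 2 ^ 9 * 3 ^ 4 * 5 * 7 ^ 3 * 11 * 19 * 31 := by norm_num; exact h
  simp only [hp.dvd_mul] at h1
  have k : ∀ {a b : ℕ}, a.Prime → p ∣ a ^ b → p = a := fun ha h => (Nat.prime_dvd_prime_iff_eq hp ha).1 (hp.dvd_of_dvd_pow h)
  have k' : ∀ {a : ℕ}, a.Prime → p ∣ a → p = a := fun ha h => (Nat.prime_dvd_prime_iff_eq hp ha).1 h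
  rcases h1 with (((((h1 | h1) | h1) | h1) | h1) | h1) | h1
  · have := k Nat.prime_two h1; omega
  · have := k Nat.prime_three h1; omega
  · exact Or.inl (k' Nat.prime_five h1)
  · exact Or.inr (Or.inl (k (by norm_num) h1))
  · exact Or.inr (Or.inr (Or.inl (k' (by norm_num) h1)))
  · exact Or.inr (Or.inr (Or.inr (Or.inl (k' (by norm_num) h1))))
  · exact Or.inr (Or.inr (Or.inr (Or.inr (k' (by norm_num) h1))))

theorem facts_on {p : ℕ} (hp : p.Prime) (hp5 : 5 ≤ p) {G : Type u} [Group G] [Finite G] (h : Spor.IsoON G)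
    (h7 : p ≠ 7) : Facts p G := by
  by_cases hd : p ∣ Nat.card G
  · rw [card_on h] at hd
    obtain ⟨e⟩ := h
    refine Facts.congr e.symm ?_
    have hfin : Finite Spor.ON := KFacts.ON.Cent.finite_ON
    rcases primes_on hp hp5 hd with h1 | h1 | h1 | h1 | h1
    · subst h1
      exact facts_of_cent (z := Cfsg.Agent.SporadicB.ON45Word.on .f) hp (by rw [card_ON']; norm_num)
        H19.Odd.ONSeven.order_f (by rw [KFacts.ON.Cent.card_cent]; norm_num)
    · exact absurd h1 h7
    · subst h1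
      exact Facts.self hp (by norm_num) (fun x hx => H474.ONC.card_cent_eleven hx) (by rw [card_ON']; norm_num)
    · subst h1
      exact Facts.self hp (by norm_num) (fun x hx => H19.Odd.ONEl.card_nineteen hx) (by rw [card_ON']; norm_num)
    · subst h1
      exact Facts.self hp (by norm_num) (fun x hx => H19.Odd.ONEl.card_31 hx) (by rw [card_ON']; norm_num)
  · intro x hx
    exact absurd (hx ▸ orderOf_dvd_natCard x) hd

/-- `p = 7` : the subgroup `L₃(7)` -/
theorem kill_on_seven {G : Type u} [Group G] [Finite G] (h : Spor.IsoON G)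
    (ih : ∀ (K : Type u) [Group K] [Finite K] [IsSimpleGroup K], Nat.card K < Nat.card G →
      (¬ ∀ x y : K, x * y = y * x) → H103.Tor.Row 7 K) : Kill 7 G := by
  have hcard := card_on h
  obtain ⟨e⟩ := h
  obtain ⟨N, hN, hi, ⟨f⟩⟩ := SporRec.ONAssembly.exists_normal SporRec.ONLower.ab_ne_one
  set N' : Subgroup Spor.ON := N.map SporRec.ONAssembly.H.subtype with hN'
  set K : Subgroup G := N'.map e.symm.toMonoidHom with hK
  let f1 : N ≃* N' := N.equivMapOfInjective _ (Subgroup.subtype_injective _)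
  let f2 : N' ≃* K := N'.equivMapOfInjective _ e.symm.injective
  let g : K ≃* SporRec.ONL37.PSL37 := (f2.symm.trans f1.symm).trans f
  have hs : IsSimpleGroup K := by
    have := SporRec.ONL37.simple_PSL37
    exact MulEquiv.isSimpleGroup g
  have hc : Nat.card K = 1876896 := by
    rw [Nat.card_congr g.toEquiv, SporRec.ONL37.card_PSL37]
  have hi : K.index = 245520 := by
    have h1 := K.card_mul_index
    rw [hc, hcard] at h1
    omega
  refine kill_of_sub (by norm_num) ih hs (by rw [hc, hcard]; norm_num) ?_ (by rw [hi]; norm_num) (not_target_on hc)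
  intro h1
  let _ : CommGroup K := { (inferInstance : Group K) with mul_comm := h1 }
  have h2 : (Nat.card K).Prime := IsSimpleGroup.prime_card
  rw [hc] at h2
  revert h2
  norm_num

end Cfsg.Agent.H682.Tor
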