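import Cfsg.Agent.H33.Tor.Facts

/-!
# S3235: tools for the sporadic rows (helper682)

* `facts_of_cent` : `p` divides `|G|` exactly once and `|C(z)|` for an involution `z`;
* `kill_of_order` : `p² - 1` does not divide `2 |G|`;
* `kill_of_sub` : a simple proper subgroup `K` of index prime to `p`, not a target group;
* `not_target` : groups which are not target groups by their order.
-/

set_option autoImplicit false

namespace Cfsg.Agent.H682.Tor

open Subgroup Cfsg Cfsg.Agent.H103.Tor Cfsg.Agent.H33.Tor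

universe u v

section

variable {p : ℕ} {G : Type u} [Group G] [Finite G]

/-- a subgroup of order `p` is conjugate to every other one if `p² ∤ |G|` -/
theorem exists_conj_pow (hp : p.Prime) (h2 : ¬ p ^ 2 ∣ Nat.card G) {x y : G} (hx : orderOf x = p) (hy : orderOf y = p) :
    ∃ (g : G) (n : ℕ), x = (g * y * g⁻¹) ^ n := by
  have hpf := Fact.mk hp
  have h1 : ∀ {a : G}, orderOf a = p → ∃ P : Sylow p G, (P : Subgroup G) = zpowers a := by
    intro a ha
    have h3 : IsPGroup p (zpowers a) := IsPGroup.of_card (n := 1) (by rw [Nat.card_zpowers, ha, pow_one])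
    obtain ⟨P, hP⟩ := h3.exists_le_sylow
    refine ⟨P, ?_⟩
    symm
    refine Subgroup.eq_of_le_of_card_ge hP ?_
    rw [Nat.card_zpowers, ha]
    obtain ⟨k, hk⟩ := IsPGroup.iff_card.1 P.isPGroup'
    rw [hk]
    rcases Nat.lt_or_ge k 2 with h4 | h4
    · calc p ^ k ≤ p ^ 1 := Nat.pow_le_pow_right hp.pos (by omega)
        _ = p := pow_one p
    · exfalso
      apply h2
      refine (pow_dvd_pow p h4).trans ?_
      rw [← hk]
      exact Subgroup.card_subgroup_dvd_card _
  obtain ⟨P, hP⟩ := h1 hx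
  obtain ⟨Q, hQ⟩ := h1 hy
  obtain ⟨g, hg⟩ := MulAction.exists_smul_eq G Q P
  have h3 : x ∈ (P : Subgroup G) := by rw [hP]; exact mem_zpowers x
  rw [← hg] at h3
  have h4 : x ∈ (Q : Subgroup G).map (MulAut.conj g).toMonoidHom := h3
  obtain ⟨b, hb, hbx⟩ := h4
  rw [SetLike.mem_coe, hQ] at hb
  obtain ⟨n, hn⟩ := mem_powers_iff_mem_zpowers.2 hb
  refine ⟨g, n, ?_⟩
  rw [← hbx, ← hn]
  show g * y ^ n * g⁻¹ = _
  rw [conj_pow]

theorem card_cent_conj (g y : G) :
    Nat.card (centralizer ({g * y * g⁻¹} : Set G)) = Nat.card (centralizer ({y} : Set G)) := by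
  refine Nat.card_congr
    { toFun := fun z => ⟨g⁻¹ * z * g, mem_centralizer_singleton_iff.2 ?_⟩
      invFun := fun z => ⟨g * z * g⁻¹, mem_centralizer_singleton_iff.2 ?_⟩
      left_inv := fun z => Subtype.ext (by show g * (g⁻¹ * z * g) * g⁻¹ = z; group)
      right_inv := fun z => Subtype.ext (by show g⁻¹ * (g * z * g⁻¹) * g = z; group) }
  · have h := mem_centralizer_singleton_iff.1 z.2
    calc g⁻¹ * (z : G) * g * y = g⁻¹ * ((z : G) * (g * y * g⁻¹)) * g := by group
      _ = g⁻¹ * (g * y * g⁻¹ * z) * g := by rw [h]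
      _ = y * (g⁻¹ * z * g) := by group
  · have h := mem_centralizer_singleton_iff.1 z.2
    calc g * (z : G) * g⁻¹ * (g * y * g⁻¹) = g * ((z : G) * y) * g⁻¹ := by group
      _ = g * (y * z) * g⁻¹ := by rw [h]
      _ = g * y * g⁻¹ * (g * z * g⁻¹) := by group

/-- all elements of order `p` have centralizers of the same order if `p² ∤ |G|` -/
theorem card_cent_eq (hp : p.Prime) (h2 : ¬ p ^ 2 ∣ Nat.card G) {x y : G} (hx : orderOf x = p) (hy : orderOf y = p) :
    Nat.card (centralizer ({x} : Set G)) = Nat.card (centralizer ({y} : Set G)) := by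
  obtain ⟨g, n, hg⟩ := exists_conj_pow hp h2 hx hy
  rw [← card_cent_conj g y, ← centralizer_zpowers x, ← centralizer_zpowers (g * y * g⁻¹)]
  have h3 : zpowers x = zpowers (g * y * g⁻¹) := by
    refine Subgroup.eq_of_le_of_card_ge ?_ ?_
    · rw [zpowers_le, hg]
      exact pow_mem (mem_zpowers _) n
    · rw [Nat.card_zpowers, Nat.card_zpowers, hx]
      exact (MulEquiv.orderOf_eq (MulAut.conj g) y).trans hy |>.le
  rw [h3]

/-- every element of order `p` commutes with an involution -/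
theorem facts_of_comm (hp : p.Prime) (h2 : ¬ p ^ 2 ∣ Nat.card G) {y z : G} (hy : orderOf y = p) (hz : orderOf z = 2)
    (hc : z * y = y * z) : Facts p G := by
  intro x hx
  left
  obtain ⟨g, n, rfl⟩ := exists_conj_pow hp h2 hx hy
  refine ⟨g * z * g⁻¹, ?_, ?_⟩
  · exact (MulEquiv.orderOf_eq (MulAut.conj g) z).trans hz
  · have h1 : Commute (g * z * g⁻¹) (g * y * g⁻¹) := by
      show g * z * g⁻¹ * (g * y * g⁻¹) = g * y * g⁻¹ * (g * z * g⁻¹)
      calc g * z * g⁻¹ * (g * y * g⁻¹) = g * (z * y) * g⁻¹ := by group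
        _ = g * (y * z) * g⁻¹ := by rw [hc]
        _ = _ := by group
    exact (h1.pow_right n).eq

theorem facts_of_cent (hp : p.Prime) (h2 : ¬ p ^ 2 ∣ Nat.card G) {z : G} (hz : orderOf z = 2)
    (h : p ∣ Nat.card (centralizer ({z} : Set G))) : Facts p G := by
  have hpf := Fact.mk hp
  obtain ⟨y, hy⟩ := exists_prime_orderOf_dvd_card' p h
  exact facts_of_comm hp h2 (y := (y : G)) (by rw [Subgroup.orderOf_coe]; exact hy) hz
    (mem_centralizer_singleton_iff.1 y.2).symm

end

/-! ### the order of `G` -/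

section

variable {p : ℕ} {G : Type u} [Group G] [Finite G]

theorem dvd_of_slt {X : Type v} [Group X] [Finite X] (h : SLT p X) : p ^ 2 - 1 ∣ 2 * Nat.card X := by
  obtain ⟨K, i1, i2, m, hm, hK, h⟩ := h
  have h0 := S0243.result (F := K) rfl 2 (by norm_num)
  rw [Fin.prod_univ_two] at h0
  simp only [Fin.val_zero, Fin.val_one, pow_zero, pow_one] at h0
  have hq : 1 < Fintype.card K := Fintype.one_lt_card
  have hqq : Fintype.card K ^ 2 - Fintype.card K = Fintype.card K * (Fintype.card K - 1) := by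
    rw [Nat.mul_sub, mul_one, pow_two]
  have h1 : Nat.gcd 2 (Fintype.card K - 1) * Nat.card (Matrix.ProjectiveSpecialLinearGroup (Fin 2) K) =
      Fintype.card K * (Fintype.card K ^ 2 - 1) := by
    refine Nat.eq_of_mul_eq_mul_left (show 0 < Fintype.card K - 1 by omega) ?_
    calc (Fintype.card K - 1) * (Nat.gcd 2 (Fintype.card K - 1) * Nat.card (Matrix.ProjectiveSpecialLinearGroup (Fin 2) K))
        = Nat.gcd 2 (Fintype.card K - 1) * ((Fintype.card K - 1) * Nat.card (Matrix.ProjectiveSpecialLinearGroup (Fin 2) K)) := by ring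
      _ = _ := h0
      _ = _ := by rw [hqq]; ring
  have h2 : p ^ 2 - 1 ∣ Fintype.card K ^ 2 - 1 := by
    rw [hK, ← pow_mul, mul_comm m 2, pow_mul]
    simpa using Nat.sub_dvd_pow_sub_pow (p ^ 2) 1 m
  have h3 : p ^ 2 - 1 ∣ 2 * Nat.card (Matrix.ProjectiveSpecialLinearGroup (Fin 2) K) := by
    refine (h2.trans (Dvd.intro_left _ h1.symm)).trans ?_
    exact Nat.mul_dvd_mul_right (Nat.gcd_dvd_left _ _) _
  rcases h with ⟨⟨e⟩⟩ | ⟨⟨e⟩⟩
  · rwa [Nat.card_congr e.toEquiv]
  · rw [Nat.card_congr e.toEquiv]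
    refine h3.trans (Nat.mul_dvd_mul_left 2 ?_)
    exact Subgroup.card_quotient_dvd_card _

theorem dvd_of_pr {A : Subgroup G} (hA : Pr p A) {g : G} (hg : ¬ Cm A (cj g A)) : p ^ 2 - 1 ∣ 2 * Nat.card G := by
  rcases hA.pair g with h | h
  · exact absurd h hg
  · exact (dvd_of_slt h).trans (Nat.mul_dvd_mul_left 2 (Subgroup.card_subgroup_dvd_card _))

theorem kill_of_order (hp : p.Prime) (hp5 : 5 ≤ p) [IsSimpleGroup G] (hna : ¬ IsMulCommutative G)
    (h : ¬ p ^ 2 - 1 ∣ 2 * Nat.card G) : Kill p G := by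
  intro A hA
  obtain ⟨g, hg⟩ := hA.exists_noncomm_simple hp hp5 (fun h => hna ⟨⟨h⟩⟩)
  exact h (dvd_of_pr hA hg)

/-- a simple subgroup of index prime to `p` which is not a target group -/
theorem kill_of_sub (hp : p.Prime)
    (ih : ∀ (K : Type u) [Group K] [Finite K] [IsSimpleGroup K], Nat.card K < Nat.card G →
      (¬ ∀ x y : K, x * y = y * x) → H103.Tor.Row p K)
    {K : Subgroup G} (hs : IsSimpleGroup K) (hlt : Nat.card K < Nat.card G) (hna : ¬ ∀ x y : K, x * y = y * x)
    (hi : ¬ p ∣ K.index) (hT : ¬ Target p K) : Kill p G :=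
  Kill.of_sylow hp K.subtype_injective (fun A hA => hT (ih K hlt hna A hA)) (by rw [range_subtype]; exact hi)

end

/-! ### orders of target groups -/

section Target

/-- the part of `d n = q ^ N r` -/
theorem le_of_eq {p q k N d n r e : ℕ} (hq : q = p ^ k) (hd : Nat.Coprime d p)
    (h : d * n = q ^ N * r) (hn : ¬ p ^ (e + 1) ∣ n) : k * N ≤ e := by
  by_contra hlt
  apply hn
  have h1 : p ^ (k * N) ∣ d * n := by
    rw [h, hq, ← pow_mul]
    exact dvd_mul_right _ _
  have h2 : p ^ (k * N) ∣ n := Nat.Coprime.dvd_of_dvd_mul_left (Nat.Coprime.pow_left _ hd.symm) h1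
  exact (pow_dvd_pow p (by omega)).trans h2

/-- the check for `PSp` -/
def chkSp (p N e : ℕ) : Prop :=
  ∀ m < e + 1, ∀ k < e + 1, 1 ≤ m → 1 ≤ k →
    Nat.gcd 2 (p ^ k - 1) * N ≠ (p ^ k) ^ (m ^ 2) * ∏ i ∈ Finset.range m, ((p ^ k) ^ (2 * (i + 1)) - 1)

/-- the check for `PSU` -/
def chkSu (p N e : ℕ) : Prop :=
  ∀ n < e + 2, ∀ k < e + 1, 2 ≤ n → 1 ≤ k →
    Nat.gcd n (p ^ k + 1) * ((p ^ k + 1) * N) ≠ (p ^ k) ^ (n * (n - 1) / 2) *
      ∏ i ∈ Finset.range n, (if Even i then (p ^ k) ^ (i + 1) + 1 else (p ^ k) ^ (i + 1) - 1)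

instance instDecidableChkSpH682 (p N e : ℕ) : Decidable (chkSp p N e) := by unfold chkSp; infer_instance
instance instDecidableChkSuH682 (p N e : ℕ) : Decidable (chkSu p N e) := by unfold chkSu; infer_instance

theorem not_target {p N e : ℕ} (hp : p.Prime) (hN : ¬ p ^ (e + 1) ∣ N) (h1 : chkSp p N e) (h2 : chkSu p N e)
    {X : Type u} [Group X] (hX : Nat.card X = N) : ¬ Target p X := by
  rintro ⟨F, i1, i2, hF, h⟩
  have : CharP F p := by rw [← hF]; exact ringChar.charP F
  rcases h with ⟨m, hm, ⟨f⟩⟩ | ⟨n, q, hn, hq, ⟨f⟩⟩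
  · have hc : Nat.card (PSp m F) = N := by rw [← hX]; exact (Nat.card_congr f.toEquiv).symm
    obtain ⟨k, hk, hq⟩ := OrdCrit.exists_pow (F := F) hp
    have h3 := S0245.result (F := F) rfl m
    have h4 := S0246.result (F := F) rfl m hm
    have h5 := Subgroup.card_mul_index (Subgroup.center ↥(Matrix.symplecticGroup (Fin m) F))
    rw [h3, h4] at h5
    have h6 : (Subgroup.center ↥(Matrix.symplecticGroup (Fin m) F)).index = N := hc
    rw [h6] at h5
    have h7 := le_of_eq hq (Nat.Coprime.coprime_dvd_left (Nat.gcd_dvd_right _ _) (OrdCrit.coprime_sub hp hk hq))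
      h5 hN
    have hk1 : 1 ≤ k := Nat.one_le_iff_ne_zero.2 hk
    have h8 : m ≤ m ^ 2 := by nlinarith
    refine h1 m ?_ k ?_ hm hk1 ?_
    · nlinarith
    · nlinarith
    · rw [hq] at h5
      exact h5
  · have hc : Nat.card (PSU n F q) = N := by rw [← hX]; exact (Nat.card_congr f.toEquiv).symm
    obtain ⟨k, hk, hqk⟩ := OrdCrit.root_pow hp (by norm_num) (OrdCrit.exists_pow (F := F) hp) hq
    have h3 := S0280.result (F := F) hq n hn
    rw [hc] at h3
    have hk1 : 1 ≤ k := Nat.one_le_iff_ne_zero.2 hk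
    have hco := OrdCrit.coprime_add hp hk hqk
    have h7 : k * (n * (n - 1) / 2) ≤ e := by
      refine le_of_eq (d := Nat.gcd n (q + 1) * (q + 1)) hqk ?_ (by rw [mul_assoc]; exact h3) hN
      exact Nat.Coprime.mul_left (Nat.Coprime.coprime_dvd_left (Nat.gcd_dvd_right _ _) hco) hco
    have h8 : n - 1 ≤ n * (n - 1) / 2 := by
      rw [Nat.le_div_iff_mul_le (by norm_num), mul_comm]
      exact Nat.mul_le_mul_right _ hn
    have h9 : n * (n - 1) / 2 ≤ k * (n * (n - 1) / 2) := Nat.le_mul_of_pos_left _ hk1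
    have h10 : k ≤ k * (n * (n - 1) / 2) := Nat.le_mul_of_pos_right _ (by omega)
    refine h2 n (by omega) k (by omega) hn hk1 ?_
    rw [hqk] at h3
    exact h3

theorem not_target_ly {X : Type u} [Group X] (hX : Nat.card X = 5859000000) : ¬ Target 5 X :=
  not_target (e := 6) (by norm_num) (by norm_num) (by decide +kernel) (by decide +kernel) hX

theorem not_target_on {X : Type u} [Group X] (hX : Nat.card X = 1876896) : ¬ Target 7 X :=
  not_target (e := 3) (by norm_num) (by norm_num) (by decide +kernel) (by decide +kernel) hX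

end Target

end Cfsg.Agent.H682.Tor
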